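/-
A `p`-group acting on subnormal subgroups of `F*(H)` when `O_p(H) = 1`:
`L = [L, Y] C_L(Y)` and `[L, Y] = [L, Y, Y]`; normalizer growth lemma; norm map on the abelianisation.
-/
import Cfsg.Agent.Lib.Components.GenFitting
import Cfsg.Agent.Lib.Coprime.Invariant
import Cfsg.Agent.Lib.Cores.Basic

namespace Cfsg.Agent.FStarAct

open Subgroup
open scoped commutatorElement Pointwise

variable {G : Type*} [Group G] {p : ℕ}

theorem coprime_card_fitting [Finite G] [Fact p.Prime] (hO : Cfsg.pCore p G = ⊥) :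
    (Nat.card (Cfsg.fittingSubgroup G)).Coprime p := by
  refine Nat.Coprime.symm ((Nat.Prime.coprime_iff_not_dvd Fact.out).mpr fun hdvd => ?_)
  set F := Cfsg.fittingSubgroup G with hF
  obtain ⟨P⟩ := (inferInstance : Nonempty (Sylow p F))
  have hnil : Group.IsNilpotent ↥F := Cores.fittingSubgroup_isNilpotent
  have htfae : Group.IsNilpotent ↥F ↔
      ∀ (q : ℕ) (_ : Fact q.Prime) (Q : Sylow q ↥F), (Q : Subgroup ↥F).Normal :=
    (Group.isNilpotent_of_finite_tfae (G := ↥F)).out 0 3
  have hPn : (P : Subgroup F).Normal := htfae.mp hnil p inferInstance P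
  have : (P : Subgroup F).Characteristic := P.characteristic_of_normal hPn
  have h1 : ((P : Subgroup F).map F.subtype).Normal := inferInstance
  have h2 : (P : Subgroup F).map F.subtype ≤ Cfsg.pCore p G :=
    le_sSup ⟨h1, P.isPGroup'.map _⟩
  rw [hO, le_bot_iff, Subgroup.map_eq_bot_iff_of_injective _ (subtype_injective F)] at h2
  have h3 := P.dvd_card_of_dvd_card hdvd
  rw [h2, Subgroup.card_bot] at h3
  exact (Fact.out : p.Prime).one_lt.ne' (Nat.dvd_one.mp h3)

theorem eq_one_of_pow_mem {A : Subgroup G} (hA : (Nat.card A).Coprime p) {x : G} (hx : x ∈ A)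
    {k : ℕ} (hk : x ^ p ^ k = 1) : x = 1 := by
  have h1 : orderOf x ∣ p ^ k := orderOf_dvd_of_pow_eq_one hk
  have h2 : orderOf x ∣ Nat.card A := orderOf_dvd_natCard A hx
  exact orderOf_eq_one_iff.mp (Nat.eq_one_of_dvd_coprimes (hA.pow_right k) h2 h1)

theorem disjoint_of_coprime {A Y : Subgroup G} (hA : (Nat.card A).Coprime p) (hY : IsPGroup p Y)
    (h : Y ≤ A) : Y = ⊥ := by
  rw [eq_bot_iff]
  intro x hx
  obtain ⟨k, hk⟩ := hY ⟨x, hx⟩
  exact mem_bot.mpr (eq_one_of_pow_mem hA (h hx) (congrArg Subtype.val hk))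

theorem coprime_of_pGroup [Finite G] [Fact p.Prime] {A Y : Subgroup G} (hA : (Nat.card A).Coprime p)
    (hY : IsPGroup p Y) : (Nat.card Y).Coprime (Nat.card A) := by
  obtain ⟨n, hn⟩ := IsPGroup.iff_card.mp hY
  rw [hn]
  exact (hA.pow_right n).symm

theorem le_centralizer_of_perfect {K L Y : Subgroup G} (hK : ⁅K, K⁆ = K) (hKL : K ≤ L)
    (h : ⁅⁅L, Y⁆, K⁆ = ⊥) : K ≤ centralizer (Y : Set G) :=
  commutator_eq_bot_iff_le_centralizer.mp (Components.commutator_eq_bot_of_perfect hK
    (le_bot_iff.mp ((commutator_mono (commutator_mono hKL le_rfl) le_rfl).trans h.le)))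

/-- A component of `L` lies in `[L, Y]` or centralises `Y`. -/
theorem component_le_or [Finite G] {L Y : Subgroup G} (hYL : Y ≤ normalizer (L : Set G))
    {K : Subgroup ↥L} (hK : Cfsg.IsComponent K) :
    K.map L.subtype ≤ ⁅L, Y⁆ ∨ K.map L.subtype ≤ centralizer (Y : Set G) := by
  have hDL : ⁅L, Y⁆ ≤ L := le_normalizer_iff_commutator_le_left.mp hYL
  have hn : ((⁅L, Y⁆).subgroupOf L).Normal :=
    normal_subgroupOf_of_le_normalizer (normalizer_commutator_ge_left L Y)
  rcases Components.IsComponent.le_or_commutes hK hn.isSubnormal with h | h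
  · left
    exact map_le_iff_le_comap.mpr h
  · right
    refine le_centralizer_of_perfect ?_ (map_subtype_le K) ?_
    · rw [← map_commutator, Components.IsComponent.perfect hK]
    · have := congrArg (Subgroup.map L.subtype) h
      rw [map_commutator, map_subgroupOf_eq_of_le hDL, Subgroup.map_bot] at this
      rwa [commutator_comm]

/-- `L = [L, Y] C_L(Y)` for a `p`-group `Y` acting on `L = E(L) F(L)` with `F(L)` a `p'`-group. -/
theorem split [Finite G] [Fact p.Prime] {L Y : Subgroup G} (hYL : Y ≤ normalizer (L : Set G))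
    (hY : IsPGroup p Y) (hdec : Cfsg.fittingSubgroup ↥L ⊔ Cfsg.layer ↥L = ⊤)
    (hcop : (Nat.card (Cfsg.fittingSubgroup ↥L)).Coprime p) :
    ⁅L, Y⁆ ⊔ (L ⊓ centralizer (Y : Set G)) = L := by
  refine le_antisymm (sup_le (le_normalizer_iff_commutator_le_left.mp hYL) inf_le_left) ?_
  set R := ⁅L, Y⁆ ⊔ (L ⊓ centralizer (Y : Set G)) with hR
  set F := (Cfsg.fittingSubgroup ↥L).map L.subtype with hF
  have hFL : F ≤ L := map_subtype_le _
  have hYF : Y ≤ normalizer (F : Set G) := hYL.trans (Cores.normalizer_le_normalizer_map _)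
  have hFR : F ≤ R := by
    have hc : (Nat.card Y).Coprime (Nat.card F) := by
      refine coprime_of_pGroup ?_ hY
      rwa [hF, Cores.card_map_subtype]
    have := hY.isNilpotent
    rw [← Coprime.commutator_sup_centralizer hYF hc (Or.inl inferInstance)]
    exact sup_le ((commutator_mono hFL le_rfl).trans le_sup_left)
      ((inf_le_inf_right _ hFL).trans le_sup_right)
  have hER : (Cfsg.layer ↥L).map L.subtype ≤ R := by
    rw [map_le_iff_le_comap]
    refine Components.layer_le fun K hK => map_le_iff_le_comap.mp ?_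
    rcases component_le_or hYL hK with h | h
    · exact h.trans le_sup_left
    · exact (le_inf (map_subtype_le K) h).trans le_sup_right
  calc L = ((⊤ : Subgroup ↥L)).map L.subtype := by rw [← MonoidHom.range_eq_map, range_subtype]
    _ ≤ R := by rw [← hdec, Subgroup.map_sup]; exact sup_le hFR hER

/-- `[L, Y] = [L, Y, Y]` once `L = [L, Y] C_L(Y)`. -/
theorem commutator_eq_of_split {L Y : Subgroup G} (hYL : Y ≤ normalizer (L : Set G))
    (h : ⁅L, Y⁆ ⊔ (L ⊓ centralizer (Y : Set G)) = L) : ⁅L, Y⁆ = ⁅⁅L, Y⁆, Y⁆ := by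
  set D := ⁅L, Y⁆ with hD
  set C := L ⊓ centralizer (Y : Set G) with hC
  have hDL : D ≤ L := le_normalizer_iff_commutator_le_left.mp hYL
  refine le_antisymm ?_ (commutator_mono hDL le_rfl)
  have hYD : Y ≤ normalizer (D : Set G) := normalizer_commutator_ge_right L Y
  have hLD : L ≤ normalizer (D : Set G) := normalizer_commutator_ge_left L Y
  conv_lhs => rw [hD, ← h]
  rw [commutator_le]
  intro a ha y hy
  obtain ⟨c, hc, d, hd, rfl⟩ := Set.mem_mul.mp
    (show a ∈ (C : Set G) * (D : Set G) by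
      rw [← coe_mul_of_left_le_normalizer_right C D (inf_le_left.trans hLD)]
      rwa [sup_comm] at ha)
  have hcy : c⁻¹ * y * c = y := by
    rw [mul_assoc, hc.2 y hy, ← mul_assoc, inv_mul_cancel, one_mul]
  have hcy' : c * y * c⁻¹ = y := by
    rw [← hc.2 y hy, mul_assoc, mul_inv_cancel, mul_one]
  have hconj : ⁅c * d, y⁆ = c * ⁅d, y⁆ * c⁻¹ := by
    rw [commutatorElement_def, commutatorElement_def]
    calc c * d * y * (c * d)⁻¹ * y⁻¹ = c * d * y * d⁻¹ * c⁻¹ * y⁻¹ := by group
      _ = c * d * y * d⁻¹ * c⁻¹ * (c * y * c⁻¹)⁻¹ := by rw [hcy']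
      _ = c * (d * y * d⁻¹ * y⁻¹) * c⁻¹ := by group
  rw [hconj]
  have hCn : c ∈ normalizer ((⁅D, Y⁆ : Subgroup G) : Set G) := by
    rw [mem_normalizer_iff_map_conj_eq, map_commutator,
      mem_normalizer_iff_map_conj_eq.mp (hLD hc.1),
      mem_normalizer_iff_map_conj_eq.mp (centralizer_le_normalizer _ hc.2)]
  exact (mem_normalizer_iff.mp hCn _).mp (commutator_mem_commutator hd hy)

/-- Transport of `L = E(L) F(L)` along `L.subgroupOf H ≅ L`. -/
theorem decomp_of_le [Finite G] [Fact p.Prime] {H L : Subgroup G} (hO : Cfsg.pCore p ↥H = ⊥)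
    (hLF : L ≤ (Cfsg.generalizedFittingSubgroup ↥H).map H.subtype)
    (hLsn : (L.subgroupOf H).IsSubnormal) :
    Cfsg.fittingSubgroup ↥L ⊔ Cfsg.layer ↥L = ⊤ ∧
      (Nat.card (Cfsg.fittingSubgroup ↥L)).Coprime p := by
  have hLH : L ≤ H := hLF.trans (map_subtype_le _)
  have hle : L.subgroupOf H ≤ Cfsg.generalizedFittingSubgroup ↥H := by
    intro x hx
    obtain ⟨y, hy, hyx⟩ := hLF (mem_subgroupOf.mp hx)
    rwa [← Subtype.ext hyx]
  have h1 := Components.subnormal_le_genFitting_decomp hLsn hle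
  have h2 : (Nat.card (Cfsg.fittingSubgroup ↥(L.subgroupOf H))).Coprime p := by
    rw [← Cores.card_map_subtype, Components.fitting_map_subtype_of_isSubnormal hLsn]
    exact Nat.Coprime.coprime_dvd_left (card_dvd_of_le inf_le_left) (coprime_card_fitting hO)
  let e := subgroupOfEquivOfLe hLH
  constructor
  · have := congrArg (Subgroup.map e.toMonoidHom) h1
    rwa [Subgroup.map_sup, Cores.fittingSubgroup_map_mulEquiv, Components.layer_map_equiv,
      Subgroup.map_top_of_surjective e.toMonoidHom e.surjective] at this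
  · rw [← Cores.fittingSubgroup_map_mulEquiv e]
    rwa [Nat.card_congr ((Cfsg.fittingSubgroup ↥(L.subgroupOf H)).equivMapOfInjective
      e.toMonoidHom e.injective).symm.toEquiv]

/-- The same for a subnormal subgroup of the whole group. -/
theorem split_top [Finite G] [Fact p.Prime] {L Y : Subgroup G} (hO : Cfsg.pCore p G = ⊥)
    (hYL : Y ≤ normalizer (L : Set G)) (hY : IsPGroup p Y)
    (hLF : L ≤ Cfsg.generalizedFittingSubgroup G) (hLsn : L.IsSubnormal) :
    ⁅L, Y⁆ ⊔ (L ⊓ centralizer (Y : Set G)) = L ∧ ⁅L, Y⁆ = ⁅⁅L, Y⁆, Y⁆ := by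
  have h1 := Components.subnormal_le_genFitting_decomp hLsn hLF
  have h2 : (Nat.card (Cfsg.fittingSubgroup ↥L)).Coprime p := by
    rw [← Cores.card_map_subtype, Components.fitting_map_subtype_of_isSubnormal hLsn]
    exact Nat.Coprime.coprime_dvd_left (card_dvd_of_le inf_le_left) (coprime_card_fitting hO)
  have h := split hYL hY h1 h2
  exact ⟨h, commutator_eq_of_split hYL h⟩

/-- `[D, Y] = D` and `Y` inside a subnormal subgroup `K` force `D ≤ K`. -/
theorem le_of_commutator_eq {D Y K : Subgroup G} (hD : ⁅D, Y⁆ = D) (hK : K.IsSubnormal)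
    (hYK : Y ≤ K) : D ≤ K := by
  induction hK with
  | top => exact le_top
  | step A B hAB hB hn ih =>
    have hDB := ih (hYK.trans hAB)
    have hBn : B ≤ normalizer (A : Set G) := (normal_subgroupOf_iff_le_normalizer hAB).mp hn
    rw [← hD]
    exact (commutator_mono hDB hYK).trans (le_normalizer_iff_commutator_le_right.mp hBn)

/-- A coprime operator group fixing a self-centralising part of a nilpotent group fixes it all. -/
theorem le_centralizer_of_self_centralizing [Finite G] {N Y X : Subgroup G}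
    (hN : Group.IsNilpotent ↥N) (hYN : Y ≤ normalizer (N : Set G))
    (hcop : (Nat.card Y).Coprime (Nat.card N)) (hXN : X ≤ N) (hX : X ≤ centralizer (Y : Set G))
    (hC : N ⊓ centralizer (X : Set G) ≤ X) : N ≤ centralizer (Y : Set G) := by
  set D := N ⊓ centralizer (Y : Set G) with hD
  set M := N ⊓ normalizer (D : Set G) with hM
  have hXD : X ≤ D := le_inf hXN hX
  have hYD : Y ≤ normalizer (D : Set G) :=
    (le_centralizer_iff.mp inf_le_right).trans (centralizer_le_normalizer _)
  have hYM : Y ≤ normalizer (M : Set G) := by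
    intro y hy
    rw [mem_normalizer_iff]
    intro g
    rw [hM, mem_inf, mem_inf]
    refine and_congr (mem_normalizer_iff.mp (hYN hy) g) ⟨fun hg => ?_, fun hg => ?_⟩
    · exact mul_mem (mul_mem (hYD hy) hg) (inv_mem (hYD hy))
    · simpa [mul_assoc] using mul_mem (mul_mem (inv_mem (hYD hy)) hg) (hYD hy)
  have h1 : ⁅⁅M, D⁆, Y⁆ = ⊥ := by
    rw [eq_bot_iff]
    refine (commutator_mono (le_normalizer_iff_commutator_le_right.mp inf_le_right) le_rfl).trans ?_
    exact (commutator_eq_bot_iff_le_centralizer.mpr inf_le_right).le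
  have h2 : ⁅⁅D, Y⁆, M⁆ = ⊥ := by
    rw [(commutator_eq_bot_iff_le_centralizer.mpr inf_le_right : ⁅D, Y⁆ = ⊥), commutator_bot_left]
  have h3 : ⁅⁅Y, M⁆, D⁆ = ⊥ := commutator_commutator_eq_bot_of_rotate h1 h2
  rw [commutator_comm Y M] at h3
  have h4 : ⁅M, Y⁆ ≤ D := by
    have h5 : ⁅M, Y⁆ ≤ M := le_normalizer_iff_commutator_le_left.mp hYM
    exact ((le_inf (h5.trans inf_le_left)
      ((commutator_eq_bot_iff_le_centralizer.mp h3).trans
        (centralizer_le (SetLike.coe_subset_coe.mpr hXD)))).trans hC).trans hXD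
  have hsolv : Group.IsSolvable ↥M :=
    have := Cores.isNilpotent_of_le (show M ≤ N from inf_le_left) hN
    inferInstance
  have h5 : ⁅M, Y⁆ = ⊥ := by
    rw [← Coprime.commutator_commutator_eq hYM
      (Nat.Coprime.coprime_dvd_right (card_dvd_of_le inf_le_left) hcop) (Or.inr hsolv)]
    exact commutator_eq_bot_iff_le_centralizer.mpr (h4.trans inf_le_right)
  have hMD : M ≤ D := le_inf inf_le_left (commutator_eq_bot_iff_le_centralizer.mp h5)
  by_contra hne
  have := hN
  have hlt : D.subgroupOf N < ⊤ := lt_top_iff_ne_top.mpr fun h =>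
    hne ((subgroupOf_eq_top.mp h).trans inf_le_right)
  obtain ⟨n, hn, hnD⟩ := SetLike.exists_of_lt (Group.normalizerCondition_of_isNilpotent _ hlt)
  refine hnD (mem_subgroupOf.mpr (hMD ⟨n.2, mem_normalizer_iff.mpr fun g => ⟨fun hg => ?_, fun hg => ?_⟩⟩))
  · exact mem_subgroupOf.mp ((mem_normalizer_iff.mp hn ⟨g, hg.1⟩).mp (mem_subgroupOf.mpr hg))
  · have hgN : g ∈ N := by
      simpa [mul_assoc] using mul_mem (mul_mem (inv_mem n.2) (inf_le_left (a := N) hg)) n.2
    exact mem_subgroupOf.mp ((mem_normalizer_iff.mp hn ⟨g, hgN⟩).mpr (mem_subgroupOf.mpr hg))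

theorem coprime_card_abelianization [Finite G] (h : Cfsg.fittingSubgroup G ⊔ Cfsg.layer G = ⊤)
    (hcop : (Nat.card (Cfsg.fittingSubgroup G)).Coprime p) :
    (Nat.card (Abelianization G)).Coprime p := by
  refine Nat.Coprime.coprime_dvd_left (card_dvd_of_surjective
    (Abelianization.of.comp (Cfsg.fittingSubgroup G).subtype) fun a => ?_) hcop
  obtain ⟨g, rfl⟩ := QuotientGroup.mk_surjective a
  obtain ⟨f, hf, e, he, rfl⟩ := mem_sup_of_normal_right.mp (h ▸ mem_top g :
    g ∈ Cfsg.fittingSubgroup G ⊔ Cfsg.layer G)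
  refine ⟨⟨f, hf⟩, ?_⟩
  show Abelianization.of f = Abelianization.of (f * e)
  have he' : e ∈ commutator G := by
    rw [commutator_def]
    exact (Components.layer_perfect (G := G)).symm.le.trans (commutator_mono le_top le_top) he
  rw [map_mul, (Abelianization.ker_of G ▸ he' : e ∈ Abelianization.of.ker), mul_one]

/-- If `L = [L, Q]` with `Q` coprime to `L/L'`, fixed points of `Q` in `L` lie in `L'`. -/
theorem mem_commutator_of_fixed [Finite G] {L Q : Subgroup G} (hQL : Q ≤ normalizer (L : Set G))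
    (hL : L ≤ ⁅L, Q⁆) (hcop : (Nat.card (Abelianization ↥L)).Coprime (Nat.card Q)) {z : G}
    (hz : z ∈ L) (hzQ : z ∈ centralizer (Q : Set G)) : z ∈ ⁅L, L⁆ := by
  classical
  haveI : Fintype ↥Q := Fintype.ofFinite _
  let c : ↥Q → (↥L →* ↥L) := fun q => (L.normalizerMonoidHom ⟨q, hQL q.2⟩).toMonoidHom
  let ν : ↥L →* Abelianization ↥L :=
    { toFun := fun x => ∏ q : ↥Q, Abelianization.of (c q x)
      map_one' := by simp
      map_mul' := fun x y => by simp only [map_mul, Finset.prod_mul_distrib] }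
  have hc : ∀ (q r : ↥Q) (x : ↥L), c q (c r x) = c (q * r) x := fun q r x => Subtype.ext <| by
    show (q : G) * ((r : G) * (x : G) * (r : G)⁻¹) * (q : G)⁻¹ =
      ((q : G) * (r : G)) * (x : G) * ((q : G) * (r : G))⁻¹
    group
  have hinv : ∀ (r : ↥Q) (x : ↥L), ν (c r x) = ν x := fun r x => by
    show (∏ q : ↥Q, Abelianization.of (c q (c r x))) = ∏ q : ↥Q, Abelianization.of (c q x)
    simp only [hc]
    exact Fintype.prod_equiv (Equiv.mulRight r) _ _ fun q => rfl
  have hker : L ≤ ν.ker.map L.subtype := by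
    refine hL.trans ?_
    rw [commutator_le]
    intro l hl q hq
    refine ⟨⟨l, hl⟩ * (c ⟨q, hq⟩ ⟨l, hl⟩)⁻¹, ?_, ?_⟩
    · show ν _ = 1
      rw [map_mul, map_inv, hinv, mul_inv_cancel]
    · show l * (q * l * q⁻¹)⁻¹ = ⁅l, q⁆
      rw [commutatorElement_def]; group
  obtain ⟨z', hz', hzz⟩ := hker hz
  have hfix : ∀ q : ↥Q, c q z' = z' := fun q => Subtype.ext <| by
    show (q : G) * (z' : G) * (q : G)⁻¹ = (z' : G)
    have : (z' : G) = z := hzz
    rw [this, hzQ q q.2, mul_inv_cancel_right]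
  have h1 : Abelianization.of z' ^ Nat.card Q = 1 := by
    have h0 : ν z' = 1 := hz'
    have : (∏ q : ↥Q, Abelianization.of (c q z')) = 1 := h0
    simpa [hfix, Nat.card_eq_fintype_card] using this
  have h2 : Abelianization.of z' = 1 := orderOf_eq_one_iff.mp (Nat.eq_one_of_dvd_coprimes hcop
    (orderOf_dvd_natCard _) (orderOf_dvd_of_pow_eq_one h1))
  have h3 : z' ∈ commutator ↥L := by rwa [← Abelianization.ker_of]
  have h4 := mem_map_of_mem L.subtype h3
  rw [map_subtype_commutator] at h4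
  rwa [show L.subtype z' = z from hzz] at h4

end Cfsg.Agent.FStarAct
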